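import Mathlib
import Cfsg.Prelude.Def_Blocks

set_option autoImplicit false
open Cfsg

/-!
# Brauer–Tuan (S0997 / S0998): the data (helper17)

`P` a Sylow `p`-subgroup of order `p` with `C_G(x) = P` for `x ∈ P ∖ 1`, `|N_G(P)| = p e`,
`p = e t + 1`, `e ≥ 2`, `t ≥ 2`.  The principal `p`-block (relative to `M`) is `X ⊔ Y`; the `e`
characters of `X` are constant `a χ = ± 1` on `P ∖ 1`, the `t` characters of `Y` agree on the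
`p`-regular elements, `ε θ = ∑_{χ ∈ X} a χ χ` there, and the common degree of the characters of
`Y` is `e` (`ε = 1`) or `p - e` (`ε = -1`).
-/

namespace Cfsg.Agent.Lib.Helper17.BT

/-- The Brauer–Tuan configuration. -/
structure BTData {G : Type*} [Group G] [Finite G] (p : ℕ) (M : Ideal Cfsg.AlgInt) (P : Sylow p G)
    (e t : ℕ) (ε : ℤ) (a : IrrCharacter G → ℤ) (X Y : Finset (IrrCharacter G)) : Prop where
  hpet : p = e * t + 1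
  he : 2 ≤ e
  ht : 2 ≤ t
  hPcard : Nat.card (P : Subgroup G) = p
  hcent : ∀ x : G, x ∈ (P : Subgroup G) → x ≠ 1 →
    Subgroup.centralizer ({x} : Set G) = (P : Subgroup G)
  hNcard : Nat.card (Subgroup.normalizer ((P : Subgroup G) : Set G)) = p * e
  hmem : ∀ χ : IrrCharacter G, χ ∈ principalBlock M G ↔ χ ∈ X ∨ χ ∈ Y
  hε : ε = 1 ∨ ε = -1
  hdisj : Disjoint X Y
  hXcard : X.card = e
  hYcard : Y.card = t
  haX : ∀ χ ∈ X, a χ = 1 ∨ a χ = -1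
  hXval : ∀ χ ∈ X, ∀ x : G, x ∈ (P : Subgroup G) → x ≠ 1 → (χ : G → ℂ) x = (a χ : ℂ)
  htriv : ∃ χ₁ ∈ X, (χ₁ : G → ℂ) = fun _ => 1
  hYsum : ∀ x : G, x ∈ (P : Subgroup G) → x ≠ 1 → ∑ θ ∈ Y, (θ : G → ℂ) x = -(ε : ℂ)
  hYreg : ∀ g : G, ¬ p ∣ orderOf g → ∀ θ ∈ Y, ∀ θ' ∈ Y, (θ : G → ℂ) g = (θ' : G → ℂ) g
  hrel : ∀ g : G, ¬ p ∣ orderOf g → ∀ θ ∈ Y,
    (ε : ℂ) * (θ : G → ℂ) g = ∑ χ ∈ X, (a χ : ℂ) * (χ : G → ℂ) g
  hdegY : ∀ θ ∈ Y, (θ : G → ℂ) 1 = if ε = 1 then (e : ℂ) else ((p - e : ℕ) : ℂ)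

end Cfsg.Agent.Lib.Helper17.BT
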