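import Mathlib
import Cfsg.Agent.Lib.Helper17.BT.Defs
import Cfsg.Agent.Lib.Helper17.PrimeSylow
import Cfsg.Agent.Lib.Helper17.CosetAction
import Cfsg.Agent.Lib.Helper78.DefectOneEndgame
import Cfsg.Agent.Lib.Helper78.CharOrtho
import Cfsg.Agent.Lib.Helper77.DefOneMain
import Cfsg.Agent.Lib.Helper77.Linear
import Cfsg.Agent.Lib.Helper75.PQRDegree
import Cfsg.Agent.Lib.Helper74.PrincipalSMT
import Cfsg.Agent.Lib.Helper76.BrauerNDivis
import Cfsg.Agent.Lib.Helper79.BrauerN.Wrap
import Cfsg.Agent.Lib.Helper80.CharBasic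
import Cfsg.Agent.S4503
import Cfsg.Agent.S4729

set_option autoImplicit false
set_option maxHeartbeats 1000000
open Cfsg
open scoped ComplexConjugate

/-!
# Brauer–Tuan: the basic configuration [BT-BASIC] (helper17)

`G` non-cyclic simple of order `p q^b g₀` with `g₀ < p - 1` and `q ∤ g₀`.  Then we are in the
configuration `BTData`, the characters of `Y` have degree `g₀`, the nontrivial characters of `X`
have degrees divisible by `q`, and `p ≤ 2 g₀ + 1`.
-/

namespace Cfsg.Agent.Lib.Helper17.BT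

/-- In a non-cyclic simple group a nontrivial irreducible character is faithful. -/
theorem faithful_of_simple {G : Type*} [Group G] [Finite G] [IsSimpleGroup G]
    (hperf : commutator G = ⊤) (χ : IrrCharacter G)
    (hχ : (χ : G → ℂ) ≠ fun _ => 1) (g : G) (hg : (χ : G → ℂ) g = (χ : G → ℂ) 1) : g = 1 := by
  classical
  haveI := Fintype.ofFinite G
  have hchar : IsCharacter G (χ : G → ℂ) :=
    Cfsg.Agent.Lib.Helper78.IsIrrCharacter.isCharacter χ.2
  have hn : (Cfsg.Agent.Lib.Helper80.charKer (χ : G → ℂ) hchar).Normal :=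
    Cfsg.Agent.Lib.Helper80.charKer_normal hchar
  rcases hn.eq_bot_or_eq_top with h0 | h0
  · have : g ∈ Cfsg.Agent.Lib.Helper80.charKer (χ : G → ℂ) hchar :=
      (Cfsg.Agent.Lib.Helper80.mem_charKer hchar g).2 hg
    rw [h0, Subgroup.mem_bot] at this
    exact this
  · exfalso
    have hall : ∀ x : G, (χ : G → ℂ) x = (χ : G → ℂ) 1 := by
      intro x
      have : x ∈ Cfsg.Agent.Lib.Helper80.charKer (χ : G → ℂ) hchar := by
        rw [h0]; exact Subgroup.mem_top x
      exact (Cfsg.Agent.Lib.Helper80.mem_charKer hchar x).1 this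
    have hdeg : (χ : G → ℂ) 1 = (charDegree (χ : G → ℂ) : ℂ) :=
      Cfsg.Agent.Lib.Helper78.IsCharacter.apply_one_eq_charDegree hchar
    have hnorm := Cfsg.Agent.Lib.Helper78.classInner_irr_self χ.2
    unfold classInner at hnorm
    have hsum : ∑ x : G, (χ : G → ℂ) x * conj ((χ : G → ℂ) x) =
        (Nat.card G : ℂ) * ((charDegree (χ : G → ℂ) : ℂ) * (charDegree (χ : G → ℂ) : ℂ)) := by
      rw [Finset.sum_congr rfl (fun x _ => by rw [hall x, hdeg, Complex.conj_natCast])]
      rw [Finset.sum_const, Finset.card_univ, nsmul_eq_mul, Nat.card_eq_fintype_card]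
    rw [hsum] at hnorm
    have hcard : (Nat.card G : ℂ) ≠ 0 := by
      exact_mod_cast (Nat.card_pos (α := G)).ne'
    rw [← mul_assoc, inv_mul_cancel₀ hcard, one_mul] at hnorm
    have h1 : charDegree (χ : G → ℂ) * charDegree (χ : G → ℂ) = 1 := by exact_mod_cast hnorm
    have h2 : charDegree (χ : G → ℂ) = 1 := Nat.eq_one_of_mul_eq_one_left h1
    apply hχ
    funext x
    rw [hall x, hdeg, h2]
    simp

/-- **[BT-BASIC]** -/
theorem bt_basic {G : Type*} [Group G] [Finite G] [IsSimpleGroup G] (hG : ¬ IsCyclic G)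
    (p q b g₀ : ℕ) [Fact p.Prime] (hq : q.Prime) (hpq : p ≠ q)
    (hcard : Nat.card G = p * q ^ b * g₀) (hg : g₀ < p - 1) (hqg : ¬ q ∣ g₀) :
    ∃ (M : Ideal Cfsg.AlgInt) (P : Sylow p G) (e t : ℕ) (ε : ℤ) (a : IrrCharacter G → ℤ)
      (X Y : Finset (IrrCharacter G)) (triv : IrrCharacter G),
      IsPModular p M ∧ BTData p M P e t ε a X Y ∧ triv ∈ X ∧ (triv : G → ℂ) = (fun _ => 1) ∧
      a triv = 1 ∧ charDegree (triv : G → ℂ) = 1 ∧
      g₀ = (if ε = 1 then e else p - e) ∧
      (∀ χ ∈ X, χ ≠ triv → q ∣ charDegree (χ : G → ℂ)) ∧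
      (∀ χ ∈ X, charDegree (χ : G → ℂ) ∣ q ^ b * g₀) ∧
      (∀ χ ∈ X, (p : ℤ) ∣ (charDegree (χ : G → ℂ) : ℤ) - a χ) ∧
      ε * (g₀ : ℤ) = ∑ χ ∈ X, a χ * (charDegree (χ : G → ℂ) : ℤ) ∧
      p ≤ 2 * g₀ + 1 ∧
      (∀ χ : IrrCharacter G, χ ≠ triv → ∀ g : G, (χ : G → ℂ) g = (χ : G → ℂ) 1 → g = 1) ∧
      (∀ χ : IrrCharacter G, (χ : G → ℂ) 1 = (charDegree (χ : G → ℂ) : ℂ)) ∧
      (∀ χ : IrrCharacter G, charDegree (χ : G → ℂ) = 1 → χ = triv) ∧
      commutator G = ⊤ ∧ Subgroup.center G = ⊥ := by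
  classical
  have hp : p.Prime := Fact.out
  have hp2 : 2 ≤ p := hp.two_le
  have hperf : commutator G = ⊤ :=
    Cfsg.Agent.Lib.Helper79.BrauerN.commutator_eq_top_of_simple_not_cyclic hG
  have hnc : ¬ IsMulCommutative G := fun h => hG (by
    let _ : CommGroup G := { (inferInstance : Group G) with mul_comm := h.is_comm.comm }
    exact IsSimpleGroup.isCyclic)
  have hGpos : 0 < Nat.card G := Nat.card_pos
  have hg₀pos : 0 < g₀ := by
    rcases Nat.eq_zero_or_pos g₀ with h | h
    · rw [h, mul_zero] at hcard; omega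
    · exact h
  have hp3 : 3 ≤ p := by omega
  have hpdvd : p ∣ Nat.card G := by rw [hcard, mul_assoc]; exact Dvd.intro _ rfl
  have hpm : ¬ p ∣ q ^ b * g₀ := by
    intro h
    rcases (Nat.Prime.dvd_mul hp).1 h with h | h
    · exact hpq ((Nat.prime_dvd_prime_iff_eq hp hq).1 (hp.dvd_of_dvd_pow h))
    · have := Nat.le_of_dvd hg₀pos h; omega
  obtain ⟨P⟩ := (Sylow.nonempty : Nonempty (Sylow p G))
  have hPcard : Nat.card (P : Subgroup G) = p := by
    have := Cfsg.Agent.Lib.Helper17.sylow_card_of_card_eq P (k := 1) (m := q ^ b * g₀)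
      (by rw [hcard, pow_one, mul_assoc]) hpm
    rwa [pow_one] at this
  -- `e`
  set e := (Subgroup.centralizer ((P : Subgroup G) : Set G)).relIndex
    (Subgroup.normalizer ((P : Subgroup G) : Set G)) with he_def
  have he1 : e ≠ 1 := Cfsg.Agent.Lib.Helper17.relIndex_cent_norm_ne_one_of_simple hnc P hpdvd
  have hediv : e ∣ p - 1 :=
    Cfsg.Agent.Lib.Helper17.relIndex_cent_norm_dvd_pred_of_card_prime P hPcard
  have he0 : e ≠ 0 := by
    intro h
    rw [h] at hediv
    have := Nat.eq_zero_of_zero_dvd hediv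
    omega
  have he2 : 2 ≤ e := by omega
  obtain ⟨t, ht⟩ := hediv
  have ht0 : 0 < t := by
    rcases Nat.eq_zero_or_pos t with h | h
    · rw [h, mul_zero] at ht; omega
    · exact h
  have hpet : p = e * t + 1 := by omega
  have hele : e ≤ p - 1 := by
    rw [ht]; exact Nat.le_mul_of_pos_right e ht0
  -- the block data
  obtain ⟨M, hM⟩ := Cfsg.Agent.Lib.Helper75.exists_isPModular p hp
  have hk := Cfsg.Agent.Lib.Helper77.DefOne.card_principalBlock_ge p M hM P hPcard e he_def.symm
  obtain ⟨ε, a, X, Y, D⟩ :=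
    Cfsg.Agent.Lib.Helper78.defect_one_data p M hM P hPcard e he_def.symm hk
  have hYcard : Y.card = t := by
    rw [D.hYcard, ht]
    exact Nat.mul_div_cancel_left t (by omega)
  have hYne : Y.Nonempty := by
    rw [← Finset.card_pos, hYcard]; exact ht0
  -- the trivial character
  obtain ⟨triv, htriv⟩ : ∃ triv : IrrCharacter G, (triv : G → ℂ) = fun _ => 1 :=
    ⟨⟨fun _ => 1, Cfsg.Agent.Lib.Helper78.isIrrCharacter_one⟩, rfl⟩
  have htrivB : triv ∈ principalBlock M G := by
    have h := Cfsg.Agent.Lib.Helper74.one_mem_principalBlock (p := p) hM G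
    have heq : ∀ (hh : IsIrrCharacter G (fun _ : G => (1 : ℂ))),
        triv = (⟨fun _ => 1, hh⟩ : IrrCharacter G) := fun hh => Subtype.ext htriv
    rw [heq _]; exact h
  have hchar1 : ∀ χ : IrrCharacter G, (χ : G → ℂ) 1 = (charDegree (χ : G → ℂ) : ℂ) := fun χ =>
    Cfsg.Agent.Lib.Helper78.IsCharacter.apply_one_eq_charDegree
      (Cfsg.Agent.Lib.Helper78.IsIrrCharacter.isCharacter χ.2)
  have hlin : ∀ χ : IrrCharacter G, charDegree (χ : G → ℂ) = 1 → χ = triv := by
    intro χ h
    have h1 : (χ : G → ℂ) 1 = 1 := by rw [hchar1, h]; simp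
    apply Subtype.ext
    rw [htriv]
    funext g
    exact Cfsg.Agent.Lib.Helper77.linear_character_eq_one_of_mem_commutator χ h1 g
      (by rw [hperf]; exact Subgroup.mem_top g)
  have hdtriv : charDegree (triv : G → ℂ) = 1 := by
    have : ((charDegree (triv : G → ℂ) : ℕ) : ℂ) = 1 := by rw [← hchar1, htriv]
    exact_mod_cast this
  have hone : ¬ p ∣ orderOf (1 : G) := by
    rw [orderOf_one]
    exact hp.one_lt.ne' ∘ Nat.dvd_one.mp
  have hfaith : ∀ χ : IrrCharacter G, χ ≠ triv → ∀ g : G,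
      (χ : G → ℂ) g = (χ : G → ℂ) 1 → g = 1 := by
    intro χ hne g hg
    exact faithful_of_simple hperf χ (fun h => hne (Subtype.ext (by rw [h, htriv]))) g hg
  have hdpos : ∀ χ : IrrCharacter G, 0 < charDegree (χ : G → ℂ) := fun χ =>
    Cfsg.Agent.Lib.Helper78.IsIrrCharacter.charDegree_pos χ.2
  -- degrees divide `q ^ b * g₀`
  have hCidx : (Subgroup.centralizer ((P : Subgroup G) : Set G)).index ∣ q ^ b * g₀ := by
    have hcyc : IsCyclic (P : Subgroup G) := isCyclic_of_prime_card hPcard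
    have hle : (P : Subgroup G) ≤ Subgroup.centralizer ((P : Subgroup G) : Set G) := by
      have hcomm : IsMulCommutative (P : Subgroup G) := IsCyclic.isMulCommutative
      exact Subgroup.le_centralizer (P : Subgroup G)
    have h1 : (Subgroup.centralizer ((P : Subgroup G) : Set G)).index ∣ (P : Subgroup G).index :=
      Subgroup.index_dvd_of_le hle
    have h2 : (P : Subgroup G).index = q ^ b * g₀ :=
      Cfsg.Agent.Lib.Helper17.sylow_index_of_card_eq P (k := 1) (m := q ^ b * g₀)
        (by rw [hcard, pow_one, mul_assoc]) hpm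
    rwa [h2] at h1
  have hdiv : ∀ χ : IrrCharacter G, χ ∈ X ∨ χ ∈ Y → charDegree (χ : G → ℂ) ∣ q ^ b * g₀ :=
    fun χ hχ => (Cfsg.Agent.Lib.Helper76.BrauerNDivis.defectOne_degree_dvd hM D hPcard hχ).trans
      hCidx
  have hcop : ∀ n : ℕ, n ∣ q ^ b * g₀ → ¬ q ∣ n → n ∣ g₀ := by
    intro n hn hqn
    have : Nat.Coprime n (q ^ b) :=
      Nat.Coprime.pow_right b ((Nat.Prime.coprime_iff_not_dvd hq).2 hqn).symm
    exact this.dvd_of_dvd_mul_left hn
  -- nontrivial characters of `X` have degree divisible by `q`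
  have hXq : ∀ χ ∈ X, χ ≠ triv → q ∣ charDegree (χ : G → ℂ) := by
    intro χ hχ hne
    by_contra hqn
    have h1 : charDegree (χ : G → ℂ) ∣ g₀ := hcop _ (hdiv χ (Or.inl hχ)) hqn
    have h2 : charDegree (χ : G → ℂ) ≤ g₀ := Nat.le_of_dvd hg₀pos h1
    have h3 := D.degree_X hPcard hχ
    have h4 := hdpos χ
    apply hne
    apply hlin
    rcases D.haX χ hχ with ha | ha
    · rw [ha] at h3
      obtain ⟨c, hc⟩ := h3
      have hc0 : 0 ≤ c := by
        by_contra hneg
        push Not at hneg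
        have : (p : ℤ) * c ≤ (p : ℤ) * (-1) :=
          mul_le_mul_of_nonneg_left (by omega) (by positivity)
        omega
      have hc1 : c < 1 := by
        by_contra hge
        push Not at hge
        have : (p : ℤ) * 1 ≤ (p : ℤ) * c := mul_le_mul_of_nonneg_left hge (by positivity)
        omega
      have : c = 0 := by omega
      rw [this, mul_zero] at hc
      omega
    · rw [ha] at h3
      obtain ⟨c, hc⟩ := h3
      exfalso
      have hc0 : 0 < c := by
        by_contra hneg
        push Not at hneg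
        have : (p : ℤ) * c ≤ (p : ℤ) * 0 :=
          mul_le_mul_of_nonneg_left hneg (by positivity)
        omega
      have : (p : ℤ) * 1 ≤ (p : ℤ) * c := mul_le_mul_of_nonneg_left (by omega) (by positivity)
      omega
  -- the degree equation
  have hdegeq : ∀ θ ∈ Y, ε * (charDegree (θ : G → ℂ) : ℤ) =
      ∑ χ ∈ X, a χ * (charDegree (χ : G → ℂ) : ℤ) := by
    intro θ hθ
    have h1 := D.hrel 1 hone θ hθ
    rw [hchar1] at h1
    have h3 : ((ε * (charDegree (θ : G → ℂ) : ℤ) : ℤ) : ℂ) =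
        ((∑ χ ∈ X, a χ * (charDegree (χ : G → ℂ) : ℤ) : ℤ) : ℂ) := by
      push_cast
      rw [h1]
      apply Finset.sum_congr rfl
      intro χ _
      rw [hchar1]
    exact_mod_cast h3
  have hqε : ¬ (q : ℤ) ∣ ε := by
    intro h
    rcases D.hε with h1 | h1 <;> rw [h1] at h
    · have := Int.natCast_dvd_natCast.1 (by simpa using h : ((q : ℕ) : ℤ) ∣ ((1 : ℕ) : ℤ))
      exact hq.one_lt.ne' (Nat.dvd_one.1 this)
    · have h' : ((q : ℕ) : ℤ) ∣ ((1 : ℕ) : ℤ) := by
        have := (dvd_neg (a := (q : ℤ)) (b := 1)).1 h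
        simpa using this
      have := Int.natCast_dvd_natCast.1 h'
      exact hq.one_lt.ne' (Nat.dvd_one.1 this)
  -- the trivial character lies in `X`
  have htrivY : triv ∉ Y := by
    intro hY
    have hall : ∀ χ ∈ X, (q : ℤ) ∣ a χ * (charDegree (χ : G → ℂ) : ℤ) := by
      intro χ hχ
      have hne : χ ≠ triv := by
        intro h
        rw [h] at hχ
        exact (Finset.disjoint_left.1 D.hdisj hχ) hY
      exact Dvd.dvd.mul_left (Int.natCast_dvd_natCast.2 (hXq χ hχ hne)) _
    have h1 := hdegeq triv hY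
    rw [hdtriv] at h1
    have h2 : (q : ℤ) ∣ ε * ((1 : ℕ) : ℤ) := by rw [h1]; exact Finset.dvd_sum hall
    rw [Nat.cast_one, mul_one] at h2
    exact hqε h2
  have htrivX : triv ∈ X := by
    rcases (D.hmem triv).mp htrivB with h | h
    · exact h
    · exact absurd h htrivY
  -- a nontrivial element of `P`
  obtain ⟨x₀, hx₀P, hx₀1⟩ : ∃ x₀ : G, x₀ ∈ (P : Subgroup G) ∧ x₀ ≠ 1 := by
    by_contra hcon
    push Not at hcon
    have : (P : Subgroup G) = ⊥ := by
      rw [Subgroup.eq_bot_iff_forall]; exact hcon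
    rw [this, Subgroup.card_bot] at hPcard
    omega
  have hatriv : a triv = 1 := by
    have h1 := D.hX triv htrivX x₀ hx₀P hx₀1
    rw [htriv] at h1
    have : ((a triv : ℤ) : ℂ) = ((1 : ℤ) : ℂ) := by rw [← h1]; simp
    exact_mod_cast this
  -- the common degree on `Y`
  obtain ⟨θ₀, hθ₀⟩ := hYne
  have hYdeg : ∀ θ ∈ Y, charDegree (θ : G → ℂ) = charDegree (θ₀ : G → ℂ) := by
    intro θ hθ
    have h1 := D.hregY 1 hone θ hθ θ₀ hθ₀
    unfold charDegree
    rw [h1]
  set y := charDegree (θ₀ : G → ℂ) with hy_def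
  have hθ₀ne : θ₀ ≠ triv := by
    intro h
    rw [h] at hθ₀
    exact htrivY hθ₀
  have hsplit : ∑ χ ∈ X, a χ * (charDegree (χ : G → ℂ) : ℤ) =
      1 + ∑ χ ∈ X.erase triv, a χ * (charDegree (χ : G → ℂ) : ℤ) := by
    rw [← Finset.add_sum_erase X _ htrivX, hatriv, hdtriv]
    simp
  have hqy : ¬ q ∣ y := by
    intro h
    have h1 := hdegeq θ₀ hθ₀
    rw [hsplit] at h1
    have h2 : (q : ℤ) ∣ ∑ χ ∈ X.erase triv, a χ * (charDegree (χ : G → ℂ) : ℤ) := by
      apply Finset.dvd_sum
      intro χ hχ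
      obtain ⟨hne, hχX⟩ := Finset.mem_erase.mp hχ
      exact Dvd.dvd.mul_left (Int.natCast_dvd_natCast.2 (hXq χ hχX hne)) _
    have h3 : (q : ℤ) ∣ ε * (y : ℤ) := Dvd.dvd.mul_left (Int.natCast_dvd_natCast.2 h) _
    have h4 : (q : ℤ) ∣ 1 := by
      have := dvd_sub h3 h2
      rwa [h1, add_sub_cancel_right] at this
    have := Int.natCast_dvd_natCast.1 (by simpa using h4 : ((q : ℕ) : ℤ) ∣ ((1 : ℕ) : ℤ))
    exact hq.one_lt.ne' (Nat.dvd_one.1 this)
  have hyg : y ∣ g₀ := hcop y (hdiv θ₀ (Or.inr hθ₀)) hqy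
  -- `p ≤ 2 y + 1`
  have hnn : ∀ H : Subgroup G, H.Normal → Nat.card H ≠ p := by
    intro H hH hHp
    rcases hH.eq_bot_or_eq_top with h | h
    · rw [h, Subgroup.card_bot] at hHp; omega
    · rw [h, Subgroup.card_top, hcard] at hHp
      have h1 : 1 ≤ q ^ b * g₀ := Nat.mul_pos (Nat.pos_of_ne_zero (pow_ne_zero _ hq.ne_zero)) hg₀pos
      have h2 : q ^ b * g₀ = 1 := by
        have : p * (q ^ b * g₀) = p * 1 := by rw [← mul_assoc, hHp, mul_one]
        exact Nat.eq_of_mul_eq_mul_left (by omega) this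
      -- then `|G| = p`, so `G` is cyclic
      apply hG
      have hGp : Nat.card G = p := by rw [hcard, mul_assoc, h2, mul_one]
      exact isCyclic_of_prime_card hGp
  have hsq : ¬ p ^ 2 ∣ Nat.card G := by
    intro h
    rw [hcard, mul_assoc, pow_two] at h
    exact hpm (Nat.dvd_of_mul_dvd_mul_left (by omega) h)
  have hS4503 := Cfsg.Agent.S4503.result p hp hpdvd hsq hnn (θ₀ : G → ℂ)
    (Cfsg.Agent.Lib.Helper78.IsIrrCharacter.isCharacter θ₀.2) (hfaith θ₀ hθ₀ne)
  rw [← hy_def] at hS4503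
  have hypos : 0 < y := hdpos θ₀
  have hyg₀ : g₀ = y := by
    obtain ⟨c, hc⟩ := hyg
    have hc0 : 0 < c := by
      rcases Nat.eq_zero_or_pos c with h | h
      · rw [h, mul_zero] at hc; omega
      · exact h
    have hc2 : c < 2 := by
      by_contra hge
      push Not at hge
      have : y * 2 ≤ y * c := Nat.mul_le_mul_left y hge
      omega
    have : c = 1 := by omega
    rw [hc, this, mul_one]
  -- `y = e` or `y = p - e`
  have hcongY := D.degree_Y hPcard hθ₀
  rw [← hy_def] at hcongY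
  have hyval : y = if ε = 1 then e else p - e := by
    rcases D.hε with hε | hε
    · rw [if_pos hε]
      rw [hε, one_mul] at hcongY
      obtain ⟨c, hc⟩ := hcongY
      have hc0 : c = 0 := by
        have h1 : -(p : ℤ) < (p : ℤ) * c := by rw [← hc]; omega
        have h2 : (p : ℤ) * c < (p : ℤ) := by rw [← hc]; omega
        have h3 : -1 < c := by
          by_contra hcon
          push Not at hcon
          have : (p : ℤ) * c ≤ (p : ℤ) * (-1) :=
            mul_le_mul_of_nonneg_left hcon (by positivity)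
          omega
        have h4 : c < 1 := by
          by_contra hcon
          push Not at hcon
          have : (p : ℤ) * 1 ≤ (p : ℤ) * c := mul_le_mul_of_nonneg_left hcon (by positivity)
          omega
        omega
      rw [hc0, mul_zero] at hc
      omega
    · have hne1 : ε ≠ 1 := by rw [hε]; norm_num
      rw [if_neg hne1]
      rw [hε] at hcongY
      obtain ⟨c, hc⟩ := hcongY
      have hc1 : c = 1 := by
        have h1 : 0 < (p : ℤ) * c := by rw [← hc]; omega
        have h2 : (p : ℤ) * c < (p : ℤ) * 2 := by rw [← hc]; omega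
        have h3 : 0 < c := by
          by_contra hcon
          push Not at hcon
          have : (p : ℤ) * c ≤ (p : ℤ) * 0 :=
            mul_le_mul_of_nonneg_left hcon (by positivity)
          omega
        have h4 : c < 2 := by
          by_contra hcon
          push Not at hcon
          have : (p : ℤ) * 2 ≤ (p : ℤ) * c := mul_le_mul_of_nonneg_left hcon (by positivity)
          omega
        omega
      rw [hc1, mul_one] at hc
      omega
  -- `t ≥ 2`
  have ht2 : 2 ≤ t := by
    by_contra hcon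
    have ht1 : t = 1 := by omega
    rw [ht1, mul_one] at ht
    rcases D.hε with hε | hε
    · rw [if_pos hε] at hyval
      omega
    · have hne1 : ε ≠ 1 := by rw [hε]; norm_num
      rw [if_neg hne1] at hyval
      have : y = 1 := by omega
      exact hθ₀ne (hlin θ₀ this)
  -- `C_G(P) = P`
  have hcyc : IsCyclic (P : Subgroup G) := isCyclic_of_prime_card hPcard
  have hPle : (P : Subgroup G) ≤ Subgroup.centralizer ((P : Subgroup G) : Set G) := by
    have hcomm : IsMulCommutative (P : Subgroup G) := IsCyclic.isMulCommutative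
    exact Subgroup.le_centralizer (P : Subgroup G)
  have hCP : Subgroup.centralizer ((P : Subgroup G) : Set G) = (P : Subgroup G) := by
    have hpg := Cfsg.Agent.S4729.result p M hM hperf P θ₀ ((D.hmem θ₀).2 (Or.inr hθ₀))
      (hfaith θ₀ hθ₀ne) (by rw [← hy_def]; omega)
    obtain ⟨n, hn⟩ := IsPGroup.iff_card.mp hpg
    have hdvd : Nat.card (Subgroup.centralizer ((P : Subgroup G) : Set G)) ∣ Nat.card G :=
      Subgroup.card_subgroup_dvd_card _
    have hn1 : n ≤ 1 := by
      by_contra hcon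
      push Not at hcon
      apply hsq
      refine (pow_dvd_pow p hcon).trans ?_
      rw [← hn]; exact hdvd
    symm
    apply Subgroup.eq_of_le_of_card_ge hPle
    rw [hn, hPcard]
    calc p ^ n ≤ p ^ 1 := Nat.pow_le_pow_right (by omega) hn1
      _ = p := pow_one p
  have hcent : ∀ x : G, x ∈ (P : Subgroup G) → x ≠ 1 →
      Subgroup.centralizer ({x} : Set G) = (P : Subgroup G) := by
    intro x hx hx1
    rw [← hCP]
    apply le_antisymm
    · intro g hg
      rw [Subgroup.mem_centralizer_singleton_iff] at hg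
      exact Cfsg.Agent.Lib.Helper17.mem_centralizer_of_commute_of_card_prime
        (P : Subgroup G) hp hPcard hx hx1 hg
    · exact Subgroup.centralizer_le (Set.singleton_subset_iff.2 hx)
  have hNcard : Nat.card (Subgroup.normalizer ((P : Subgroup G) : Set G)) = p * e := by
    have h1 : Nat.card (Subgroup.centralizer ((P : Subgroup G) : Set G)) * e =
        Nat.card (Subgroup.normalizer ((P : Subgroup G) : Set G)) := by
      have h0 := Subgroup.relIndex_mul_relIndex (⊥ : Subgroup G)
        (Subgroup.centralizer ((P : Subgroup G) : Set G))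
        (Subgroup.normalizer ((P : Subgroup G) : Set G)) bot_le
        (Subgroup.centralizer_le_normalizer _)
      rw [Subgroup.relIndex_bot_left, Subgroup.relIndex_bot_left] at h0
      exact h0
    rw [hCP, hPcard] at h1
    exact h1.symm
  have hdegY : ∀ θ ∈ Y, (θ : G → ℂ) 1 = if ε = 1 then (e : ℂ) else ((p - e : ℕ) : ℂ) := by
    intro θ hθ
    rw [hchar1, hYdeg θ hθ, hyval]
    split_ifs <;> rfl
  refine ⟨M, P, e, t, ε, a, X, Y, triv, hM, ?_, htrivX, htriv, hatriv, hdtriv, ?_, hXq,
    fun χ hχ => hdiv χ (Or.inl hχ), fun χ hχ => D.degree_X hPcard hχ, ?_, ?_, hfaith, hchar1,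
    hlin, hperf, ?_⟩
  · exact
      { hpet := hpet
        he := he2
        ht := ht2
        hPcard := hPcard
        hcent := hcent
        hNcard := hNcard
        hmem := D.hmem
        hε := D.hε
        hdisj := D.hdisj
        hXcard := D.hXcard
        hYcard := hYcard
        haX := D.haX
        hXval := D.hX
        htriv := ⟨triv, htrivX, htriv⟩
        hYsum := fun x hx hx1 =>
          Cfsg.Agent.Lib.Helper76.BrauerNDivis.defectOne_sum_Y_apply hM D hPcard ⟨θ₀, hθ₀⟩ hx hx1
        hYreg := D.hregY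
        hrel := D.hrel
        hdegY := hdegY }
  · rw [hyg₀, hyval]
  · rw [hyg₀]; exact hdegeq θ₀ hθ₀
  · rw [hyg₀]; exact hS4503
  · have hcn : (Subgroup.center G).Normal := inferInstance
    rcases hcn.eq_bot_or_eq_top with hc0 | hc0
    · exact hc0
    · exfalso
      apply hnc
      refine ⟨⟨fun a b => ?_⟩⟩
      have ha : a ∈ Subgroup.center G := by rw [hc0]; exact Subgroup.mem_top a
      exact (Subgroup.mem_center_iff.mp ha b).symm

end Cfsg.Agent.Lib.Helper17.BT
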